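-- BG Theorem 12.5 (S1417) from the frozen statements only: all Section 11 pieces plugged in.
import Mathlib
import Cfsg.Statements.S1350
import Cfsg.Statements.S1403
import Cfsg.Statements.S1404
import Cfsg.Statements.S1405
import Cfsg.Statements.S1408
import Cfsg.Statements.S1409
import Cfsg.Statements.S1410
import Cfsg.Statements.S1412
import Cfsg.Statements.S1415
import Cfsg.Statements.S1416
import Cfsg.Statements.S1417
import Cfsg.Agent.Lib.Helper59.BG.S1417Glue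
import Cfsg.Agent.Lib.Helper15.BG.Exc117Final
import Cfsg.Agent.Lib.Helper98.BG.T4
import Cfsg.Agent.Lib.Helper57.BG.PkgB
import Cfsg.Agent.Lib.Helper78.BG.S1405Core
import Cfsg.Agent.Lib.Helper47.BG.SigmaNe

set_option autoImplicit false

namespace Cfsg.Agent.Lib.Helper59.BG

open Cfsg

/-- B-G Lemma 11.7 for every exceptional datum, from the frozen statements (helper15's core with
helper98's T4 and helper57's package B plugged in). -/
theorem exc_normal_all {G : Type*} [Group G] [Finite G] (hG : Cfsg.IsMinSimpleOddOrder G)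
    (h1350 : type_of% (@Cfsg.CfsgFrozen.S1350 G _ _ hG))
    (h1403 : type_of% (@Cfsg.CfsgFrozen.S1403 G _ _ hG))
    (h1404 : type_of% (@Cfsg.CfsgFrozen.S1404 G _ _ hG))
    (h1405 : type_of% (@Cfsg.CfsgFrozen.S1405 G _ _ hG))
    (h1408 : type_of% (@Cfsg.CfsgFrozen.S1408 G _ _ hG))
    (h1409 : type_of% (@Cfsg.CfsgFrozen.S1409 G _ _ hG))
    (h1410 : type_of% (@Cfsg.CfsgFrozen.S1410 G _ _ hG))
    (h1412 : type_of% (@Cfsg.CfsgFrozen.S1412 G _ _ hG))
    (h1415 : type_of% (@Cfsg.CfsgFrozen.S1415 G _ _ hG)) :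
    ∀ (M : Subgroup G), IsCoatom M → ∀ (p : ℕ) [Fact p.Prime] (A A₀ : Subgroup G),
      p ∉ sigma M → A ≤ M → IsElementaryAbelian p A → Nat.card A = p ^ 2 → A₀ ≤ A →
      Nat.card A₀ = p → Subgroup.normalizer (A₀ : Set G) ≤ M →
      M ≤ Subgroup.normalizer ((sigmaCore M ⊔ A : Subgroup G) : Set G) := by
  apply Cfsg.Agent.Lib.Helper15.BG.exc_normal_of_t4 hG h1350 h1403 h1404 h1405 h1408 h1409 h1410
    h1412 h1415
  · intro M hM q _ hq Y hYM hY1 hYq hYn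
    exact Cfsg.Agent.Lib.Helper98.BG.t4 hG h1409 M hM
      (fun q hq => Cfsg.Agent.Lib.Helper78.BG.alpha_subset_sigma hG h1403 M hM hq)
      (fun q _ B B₀ hq hBM hBe hB2 hB₀ hB₀c hN P =>
        ((Cfsg.Agent.Lib.Helper15.BG.exc_pieces hG h1350 h1404 h1405 h1408 h1409 h1410 h1412 M hM
          q B B₀ hq hBM hBe hB2 hB₀ hB₀c hN).1 P).1)
      q hq Y hYM hY1 hYq hYn
  · intro X N R a hXs hXo hNX hRX haX p q hp _ hpq hao haN hRN haR hR hqN hpN hfpf hY
    exact Cfsg.Agent.Lib.Helper57.BG.fpf_centralizes_pgroup X N R a hXs hXo hNX hRX haX hp hpq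
      hao haN hRN haR hR hqN hpN hfpf hY

/-- **S1417** (B-G Theorem 12.5) from the frozen statements S1350, S1403, S1404, S1405, S1408,
S1409, S1410, S1412, S1415, S1416. -/
theorem s1417_full {G : Type*} [Group G] [Finite G] (hG : Cfsg.IsMinSimpleOddOrder G)
    (h1350 : type_of% (@Cfsg.CfsgFrozen.S1350 G _ _ hG))
    (h1403 : type_of% (@Cfsg.CfsgFrozen.S1403 G _ _ hG))
    (h1404 : type_of% (@Cfsg.CfsgFrozen.S1404 G _ _ hG))
    (h1405 : type_of% (@Cfsg.CfsgFrozen.S1405 G _ _ hG))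
    (h1408 : type_of% (@Cfsg.CfsgFrozen.S1408 G _ _ hG))
    (h1409 : type_of% (@Cfsg.CfsgFrozen.S1409 G _ _ hG))
    (h1410 : type_of% (@Cfsg.CfsgFrozen.S1410 G _ _ hG))
    (h1412 : type_of% (@Cfsg.CfsgFrozen.S1412 G _ _ hG))
    (h1415 : type_of% (@Cfsg.CfsgFrozen.S1415 G _ _ hG))
    (h1416 : type_of% (@Cfsg.CfsgFrozen.S1416 G _ _ hG)) :
    type_of% (@Cfsg.CfsgFrozen.S1417 G _ _ hG) := by
  intro M hM p _ hp A hAA
  refine s1417_of_pieces hG h1409 h1412 h1416 (fun L hL => (h1350 L hL).1) ?_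
    (exc_normal_all hG h1350 h1403 h1404 h1405 h1408 h1409 h1410 h1412 h1415) M hM p hp A hAA
  intro H hH q _ B B₀ hq hBH hBe hB2 hB₀ hB₀c hN
  have hqq : q.Prime := Fact.out
  have h25 := Cfsg.Agent.Lib.Helper25.BG.exc_sec11 hG h1350 h1404 h1408 h1409 h1410 H hH q hq B hBH
    hBe hB2 B₀ hB₀ hB₀c hN
  have h1b := Cfsg.Agent.Lib.Helper25.BG.exc_sec11_1b hG h1404 h1408 h1409 h1410 H hH q hq B hBH
    hBe hB2 B₀ hB₀ hB₀c hN
  refine ⟨?_, h25.2.1, h25.2.2.1, Cfsg.Agent.Lib.Helper47.BG.sigmaCore_ne_bot hG h1405 H hH,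
    h25.2.2.2⟩
  intro g hg _ r _ Q1 Q2 h1 h2 h3 h4 h5 h6 X hX hXc
  refine h1b g hg r Q1 Q2 h1 h2 h3 h4 h5 h6 X hX ?_
  intro h
  rw [h, Subgroup.card_bot] at hXc
  exact hqq.one_lt.ne hXc

end Cfsg.Agent.Lib.Helper59.BG
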