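-- BG Theorem 12.5 (S1417): assembly from S1416 and the Section 11 package for exceptional
-- maximal subgroups (taken as an explicit hypothesis `hSec11`).
import Mathlib
import Cfsg.Statements.S1416
import Cfsg.Agent.Lib.Helper67.BG.Basics
import Cfsg.Agent.Lib.Helper74.BG.S1425Core

set_option autoImplicit false

namespace Cfsg.Agent.Lib.Helper59.BG

/-- The conclusions of B-G Section 11 (11.3 - 11.7) for a maximal subgroup `H`, a prime `q` and an
elementary abelian subgroup `B` of order `q ^ 2`. -/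
structure Sec11 {G : Type*} [Group G] (H : Subgroup G) (q : ℕ) (B : Subgroup G) : Prop where
  nil : Group.IsNilpotent (Cfsg.sigmaCore H)
  uniq : ∀ L : Subgroup G, IsCoatom L → B ≤ L → Cfsg.sigmaCore H ⊓ Cfsg.sigmaCore L ≠ ⊥ → L = H
  sylow_comm : ∀ P : Sylow q H, IsMulCommutative (P : Subgroup H)
  omega : ∀ P : Sylow q H, B ≤ (P : Subgroup H).map H.subtype →
    ∀ x ∈ (P : Subgroup H).map H.subtype, x ^ q = 1 ↔ x ∈ B
  cent : Cfsg.sigmaCore H ⊓ Subgroup.centralizer (B : Set G) = ⊥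
  fpf : ∃ B₁ : Subgroup G, B₁ ≤ B ∧ Nat.card B₁ = q ∧
    Cfsg.sigmaCore H ⊓ Subgroup.centralizer (B₁ : Set G) = ⊥
  normal : H ≤ Subgroup.normalizer ((Cfsg.sigmaCore H ⊔ B : Subgroup G) : Set G)

/-- An element of `S ⊔ A` (`S` normal, `A` of exponent `p`) of order prime to `p` lies in `S`. -/
theorem mem_of_coprime_of_mem_sup {H : Type*} [Group H] (S A : Subgroup H) [S.Normal] (p : ℕ)
    (hA : ∀ a ∈ A, a ^ p = 1) (c : H) (hc : c ∈ S ⊔ A) (k : ℕ) (hk : c ^ k = 1)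
    (hkp : k.Coprime p) : c ∈ S := by
  have h1 : (QuotientGroup.mk' S) c ∈ (S ⊔ A).map (QuotientGroup.mk' S) :=
    Subgroup.mem_map_of_mem _ hc
  rw [Subgroup.map_sup, QuotientGroup.map_mk'_self, bot_sup_eq] at h1
  obtain ⟨b, hb, hbc⟩ := h1
  have h2 : ((QuotientGroup.mk' S) c) ^ p = 1 := by rw [← hbc, ← map_pow, hA b hb, map_one]
  have h3 : ((QuotientGroup.mk' S) c) ^ k = 1 := by rw [← map_pow, hk, map_one]
  have h4 : (QuotientGroup.mk' S) c = 1 := by
    have h5 := pow_gcd_eq_one.mpr ⟨h3, h2⟩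
    rwa [Nat.Coprime.gcd_eq_one hkp, pow_one] at h5
  exact (QuotientGroup.eq_one_iff c).mp h4

theorem s1417_core {G : Type*} [Group G] [Finite G] (hG : Cfsg.IsMinSimpleOddOrder G)
    (hHall : ∀ L : Subgroup G, IsCoatom L → Cfsg.IsPiHallOf (Cfsg.sigma L) (Cfsg.sigmaCore L) L)
    (h1416 : type_of% (@Cfsg.CfsgFrozen.S1416 G _ _ hG))
    (hSec11 : ∀ (H : Subgroup G), IsCoatom H → ∀ (q : ℕ) [Fact q.Prime] (B B₀ : Subgroup G),
      q ∉ Cfsg.sigma H → B ≤ H → Cfsg.IsElementaryAbelian q B → Nat.card B = q ^ 2 →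
      B₀ ≤ B → Nat.card B₀ = q → Subgroup.normalizer (B₀ : Set G) ≤ H → Sec11 H q B)
    (M : Subgroup G) (hM : IsCoatom M) (p : ℕ) [Fact p.Prime] (hp : p ∈ Cfsg.tau2 M) (A : Subgroup G) (hA : (A ≤ M ∧ Cfsg.IsElementaryAbelian p A ∧ Nat.card A = p ^ 2)) :
    Group.IsNilpotent (Cfsg.sigmaCore M) ∧
      (∀ P : Sylow p M, IsMulCommutative (P : Subgroup M) ∧
        (A ≤ (P : Subgroup M).map M.subtype →
          (∀ x ∈ (P : Subgroup M).map M.subtype, x ^ p = 1 ↔ x ∈ A) ∧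
          ¬ Subgroup.normalizer ((((P : Subgroup M).map M.subtype : Subgroup G)) : Set G) ≤ M)) ∧
      M ≤ Subgroup.normalizer ((Cfsg.sigmaCore M ⊔ A : Subgroup G) : Set G) ∧
      Cfsg.sigmaCore M ⊓ Subgroup.centralizer (A : Set G) = ⊥ ∧
      (∀ Mstar : Subgroup G, IsCoatom Mstar → Mstar ≠ M → A ≤ Mstar → Cfsg.sigmaCore M ⊓ Mstar = ⊥) ∧
      ∃ A₁ : Subgroup G, A₁ ≤ A ∧ Nat.card A₁ = p ∧ Cfsg.sigmaCore M ⊓ Subgroup.centralizer (A₁ : Set G) = ⊥ := by
  have hpp : p.Prime := Fact.out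
  have hpσ : p ∉ Cfsg.sigma M := hp.2.1
  -- every maximal subgroup over `A` in which `p` is not a sigma-prime is exceptional
  have hexc : ∀ (H : Subgroup G), IsCoatom H → A ≤ H → p ∉ Cfsg.sigma H → Sec11 H p A := by
    intro H hH hAH hpH
    have h := (h1416 H hH p A ⟨hAH, hA.2.1, hA.2.2⟩).2
    by_contra hcon
    apply hpH
    refine (h ?_).1
    intro A₀ hA₀ hcard hN
    exact hcon (hSec11 H hH p A A₀ hpH hAH hA.2.1 hA.2.2 hA₀ hcard hN.1)
  have hS := hexc M hM hA.1 hpσ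
  have hpM : p ∣ Nat.card M := by
    have h1 : Nat.card A ∣ Nat.card M := Subgroup.card_dvd_of_le hA.1
    rw [hA.2.2] at h1
    exact dvd_trans (dvd_pow_self p (by norm_num)) h1
  refine ⟨hS.nil, ?_, hS.normal, hS.cent, ?_, hS.fpf⟩
  · intro P
    refine ⟨hS.sylow_comm P, fun hAP => ⟨hS.omega P hAP, fun hN => hpσ ⟨hpp, hpM, P, hN⟩⟩⟩
  · intro Mstar hMs hne hAMs
    -- `Mstar` normalizes `Mstar_σ A`
    have hN : Mstar ≤ Subgroup.normalizer ((Cfsg.sigmaCore Mstar ⊔ A : Subgroup G) : Set G) := by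
      by_cases hps : p ∈ Cfsg.sigma Mstar
      · have hle : A ≤ Cfsg.sigmaCore Mstar := by
          apply Cfsg.Agent.Lib.Helper74.BG.le_sigmaCore_of_le (hHall Mstar hMs) hAMs
          intro q hq hqA
          rw [hA.2.2] at hqA
          have : q = p := (Nat.prime_dvd_prime_iff_eq hq hpp).mp (hq.dvd_of_dvd_pow hqA)
          rw [this]; exact hps
        rw [sup_eq_left.mpr hle]
        exact Cfsg.Agent.Lib.Helper67.BG.sigmaCore_normalizer Mstar
      · exact (hexc Mstar hMs hAMs hps).normal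
    -- the two sigma-cores meet trivially
    have hti : Cfsg.sigmaCore M ⊓ Cfsg.sigmaCore Mstar = ⊥ := by
      by_contra hcon
      exact hne (hS.uniq Mstar hMs hAMs hcon)
    have hcop : (Nat.card (Cfsg.sigmaCore M)).Coprime p := by
      rw [Nat.coprime_comm, Nat.Prime.coprime_iff_not_dvd hpp]
      intro hdvd
      exact hpσ (Cfsg.Agent.Lib.Helper67.BG.sigmaCore_isPi M p hpp hdvd)
    have hσM : Cfsg.sigmaCore M ≤ M := Cfsg.Agent.Lib.Helper67.BG.sigmaCore_le M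
    have hσMs : Cfsg.sigmaCore Mstar ≤ Mstar := Cfsg.Agent.Lib.Helper67.BG.sigmaCore_le Mstar
    have hnormM := Cfsg.Agent.Lib.Helper67.BG.sigmaCore_normalizer M
    have hSn : ((Cfsg.sigmaCore Mstar).subgroupOf Mstar).Normal :=
      Subgroup.normal_subgroupOf_of_le_normalizer
        (Cfsg.Agent.Lib.Helper67.BG.sigmaCore_normalizer Mstar)
    rw [eq_bot_iff]
    intro d hd
    obtain ⟨hd1, hd2⟩ := Subgroup.mem_inf.mp hd
    have hdc : d ∈ Subgroup.centralizer (A : Set G) := by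
      rw [Subgroup.mem_centralizer_iff]
      intro a ha
      have haMs : a ∈ Mstar := hAMs ha
      -- the commutator `c = d a d⁻¹ a⁻¹`
      have hc1 : d * (a * d⁻¹ * a⁻¹) ∈ Cfsg.sigmaCore M := by
        apply Subgroup.mul_mem _ hd1
        have h1 := (Subgroup.mem_normalizer_iff.mp (hnormM (hA.1 ha))) d⁻¹
        exact h1.mp (Subgroup.inv_mem _ hd1)
      have hc2 : d * a * d⁻¹ * a⁻¹ ∈ (Cfsg.sigmaCore Mstar ⊔ A : Subgroup G) := by
        apply Subgroup.mul_mem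
        · have h1 := (Subgroup.mem_normalizer_iff.mp (hN hd2)) a
          exact h1.mp (Subgroup.mem_sup_right ha)
        · exact Subgroup.inv_mem _ (Subgroup.mem_sup_right ha)
      have hce : d * (a * d⁻¹ * a⁻¹) = d * a * d⁻¹ * a⁻¹ := by group
      rw [hce] at hc1
      set c := d * a * d⁻¹ * a⁻¹ with hcdef
      have hcMs : c ∈ Mstar :=
        Subgroup.mul_mem _ (Subgroup.mul_mem _ (Subgroup.mul_mem _ hd2 haMs)
          (Subgroup.inv_mem _ hd2)) (Subgroup.inv_mem _ haMs)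
      have hc3 : (⟨c, hcMs⟩ : Mstar) ∈
          (Cfsg.sigmaCore Mstar).subgroupOf Mstar ⊔ A.subgroupOf Mstar := by
        rw [← Subgroup.subgroupOf_sup hσMs hAMs]
        exact Subgroup.mem_subgroupOf.mpr hc2
      have hck : (⟨c, hcMs⟩ : Mstar) ^ Nat.card (Cfsg.sigmaCore M) = 1 := by
        apply Subtype.ext
        rw [Subgroup.coe_pow]
        show c ^ Nat.card (Cfsg.sigmaCore M) = 1
        exact orderOf_dvd_iff_pow_eq_one.mp (Subgroup.orderOf_dvd_natCard _ hc1)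
      have hc4 := mem_of_coprime_of_mem_sup ((Cfsg.sigmaCore Mstar).subgroupOf Mstar)
        (A.subgroupOf Mstar) p
        (fun x hx => by
          apply Subtype.ext
          rw [Subgroup.coe_pow]
          exact hA.2.1.2 _ (Subgroup.mem_subgroupOf.mp hx))
        ⟨c, hcMs⟩ hc3 _ hck hcop
      have hc5 : c ∈ Cfsg.sigmaCore Mstar := Subgroup.mem_subgroupOf.mp hc4
      have hc6 : c ∈ Cfsg.sigmaCore M ⊓ Cfsg.sigmaCore Mstar := Subgroup.mem_inf.mpr ⟨hc1, hc5⟩
      rw [hti, Subgroup.mem_bot] at hc6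
      -- `d a d⁻¹ a⁻¹ = 1`
      have h7 : d * a = a * d := by
        have h8 : d * a = c * (a * d) := by rw [hcdef]; group
        rw [h8, hc6, one_mul]
      exact h7.symm
    have hd3 : d ∈ Cfsg.sigmaCore M ⊓ Subgroup.centralizer (A : Set G) :=
      Subgroup.mem_inf.mpr ⟨hd1, hdc⟩
    rw [hS.cent] at hd3
    exact hd3

end Cfsg.Agent.Lib.Helper59.BG
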