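-- BG Theorem 12.5 (S1417): glue of the Section 11 pieces (11.1-11.4, 11.5/11.6, 11.7).
import Mathlib
import Cfsg.Statements.S1409
import Cfsg.Statements.S1412
import Cfsg.Statements.S1416
import Cfsg.Agent.Lib.Helper59.BG.S1417Core
import Cfsg.Agent.Lib.Helper76.BG.Sec11Abelian

set_option autoImplicit false

namespace Cfsg.Agent.Lib.Helper59.BG

/-- B-G 11.1(b), 11.2(b), 11.3 (with `M_σ ≠ 1`) and 11.4 for one exceptional datum `(M, p, A, A₀)`. -/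
structure Sec11A {G : Type*} [Group G] (M : Subgroup G) (p : ℕ) (A A₀ : Subgroup G) : Prop where
  h1b : ∀ g : G, g ∉ M → A ≤ M.map (MulAut.conj g).toMonoidHom →
      ∀ (q : ℕ) [Fact q.Prime] (Q1 Q2 : Subgroup G), Q1 ≤ Cfsg.sigmaCore M →
      Q2 ≤ (Cfsg.sigmaCore M).map (MulAut.conj g).toMonoidHom →
      (∃ S : Sylow q G, (S : Subgroup G) = Q1) → (∃ S : Sylow q G, (S : Subgroup G) = Q2) →
      A ≤ Subgroup.normalizer (Q1 : Set G) → A ≤ Subgroup.normalizer (Q2 : Set G) →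
      ∀ X : Subgroup G, X ≤ A → Nat.card X = p →
      Q1 ⊓ Subgroup.centralizer (X : Set G) ≠ ⊥ → Q2 ⊓ Subgroup.centralizer (X : Set G) = ⊥
  h2b : ∀ g : G, g ∉ M → A ≤ M.map (MulAut.conj g).toMonoidHom →
      Cfsg.sigmaCore M ⊓
        Subgroup.centralizer ((A₀.map (MulAut.conj g).toMonoidHom : Subgroup G) : Set G) = ⊥
  nil : Group.IsNilpotent (Cfsg.sigmaCore M)
  ne : Cfsg.sigmaCore M ≠ ⊥
  uniq : ∀ L : Subgroup G, IsCoatom L → A ≤ L →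
    Cfsg.sigmaCore M ⊓ Cfsg.sigmaCore L ≠ ⊥ → L = M

theorem sec11_glue {G : Type*} [Group G] [Finite G] (hG : Cfsg.IsMinSimpleOddOrder G)
    (h1409 : type_of% (@Cfsg.CfsgFrozen.S1409 G _ _ hG))
    (h1412 : type_of% (@Cfsg.CfsgFrozen.S1412 G _ _ hG))
    (hHall : ∀ L : Subgroup G, IsCoatom L → Cfsg.IsPiHallOf (Cfsg.sigma L) (Cfsg.sigmaCore L) L)
    (hA : ∀ (H : Subgroup G), IsCoatom H → ∀ (q : ℕ) [Fact q.Prime] (B B₀ : Subgroup G),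
      q ∉ Cfsg.sigma H → B ≤ H → Cfsg.IsElementaryAbelian q B → Nat.card B = q ^ 2 →
      B₀ ≤ B → Nat.card B₀ = q → Subgroup.normalizer (B₀ : Set G) ≤ H → Sec11A H q B B₀)
    (h117 : ∀ (H : Subgroup G), IsCoatom H → ∀ (q : ℕ) [Fact q.Prime] (B B₀ : Subgroup G),
      q ∉ Cfsg.sigma H → B ≤ H → Cfsg.IsElementaryAbelian q B → Nat.card B = q ^ 2 →
      B₀ ≤ B → Nat.card B₀ = q → Subgroup.normalizer (B₀ : Set G) ≤ H →
      H ≤ Subgroup.normalizer ((Cfsg.sigmaCore H ⊔ B : Subgroup G) : Set G)) :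
    ∀ (H : Subgroup G), IsCoatom H → ∀ (q : ℕ) [Fact q.Prime] (B B₀ : Subgroup G),
      q ∉ Cfsg.sigma H → B ≤ H → Cfsg.IsElementaryAbelian q B → Nat.card B = q ^ 2 →
      B₀ ≤ B → Nat.card B₀ = q → Subgroup.normalizer (B₀ : Set G) ≤ H → Sec11 H q B := by
  intro H hH q _ B B₀ hq hBH hBe hB2 hB₀ hB₀c hN
  have hS := hA H hH q B B₀ hq hBH hBe hB2 hB₀ hB₀c hN
  have hr2 : Cfsg.PRankLE q 2 H := (h1409 H hH q hq B₀ hB₀c hN).1.1
  have h76 := Cfsg.Agent.Lib.Helper76.BG.sec11_abelian hG h1412 H q hq B B₀ hBH hBe hB2 hB₀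
    hB₀c hN hr2 (hHall H hH) hS.h1b hS.h2b hS.nil hS.ne
  exact ⟨hS.nil, hS.uniq, fun P => (h76.1 P).1, fun P hBP => ((h76.1 P).2 hBP).1, h76.2.1,
    h76.2.2, h117 H hH q B B₀ hq hBH hBe hB2 hB₀ hB₀c hN⟩

/-- S1417 from the statements S1409, S1412, S1416, the Hall property of `M_σ`, and the Section 11
pieces 11.1-11.4 (`hA`) and 11.7 (`h117`). -/
theorem s1417_of_pieces {G : Type*} [Group G] [Finite G] (hG : Cfsg.IsMinSimpleOddOrder G)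
    (h1409 : type_of% (@Cfsg.CfsgFrozen.S1409 G _ _ hG))
    (h1412 : type_of% (@Cfsg.CfsgFrozen.S1412 G _ _ hG))
    (h1416 : type_of% (@Cfsg.CfsgFrozen.S1416 G _ _ hG))
    (hHall : ∀ L : Subgroup G, IsCoatom L → Cfsg.IsPiHallOf (Cfsg.sigma L) (Cfsg.sigmaCore L) L)
    (hA : ∀ (H : Subgroup G), IsCoatom H → ∀ (q : ℕ) [Fact q.Prime] (B B₀ : Subgroup G),
      q ∉ Cfsg.sigma H → B ≤ H → Cfsg.IsElementaryAbelian q B → Nat.card B = q ^ 2 →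
      B₀ ≤ B → Nat.card B₀ = q → Subgroup.normalizer (B₀ : Set G) ≤ H → Sec11A H q B B₀)
    (h117 : ∀ (H : Subgroup G), IsCoatom H → ∀ (q : ℕ) [Fact q.Prime] (B B₀ : Subgroup G),
      q ∉ Cfsg.sigma H → B ≤ H → Cfsg.IsElementaryAbelian q B → Nat.card B = q ^ 2 →
      B₀ ≤ B → Nat.card B₀ = q → Subgroup.normalizer (B₀ : Set G) ≤ H →
      H ≤ Subgroup.normalizer ((Cfsg.sigmaCore H ⊔ B : Subgroup G) : Set G))
    (M : Subgroup G) (hM : IsCoatom M) (p : ℕ) [Fact p.Prime] (hp : p ∈ Cfsg.tau2 M) (A : Subgroup G) (hAA : (A ≤ M ∧ Cfsg.IsElementaryAbelian p A ∧ Nat.card A = p ^ 2)) :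
    Group.IsNilpotent (Cfsg.sigmaCore M) ∧
      (∀ P : Sylow p M, IsMulCommutative (P : Subgroup M) ∧
        (A ≤ (P : Subgroup M).map M.subtype →
          (∀ x ∈ (P : Subgroup M).map M.subtype, x ^ p = 1 ↔ x ∈ A) ∧
          ¬ Subgroup.normalizer ((((P : Subgroup M).map M.subtype : Subgroup G)) : Set G) ≤ M)) ∧
      M ≤ Subgroup.normalizer ((Cfsg.sigmaCore M ⊔ A : Subgroup G) : Set G) ∧
      Cfsg.sigmaCore M ⊓ Subgroup.centralizer (A : Set G) = ⊥ ∧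
      (∀ Mstar : Subgroup G, IsCoatom Mstar → Mstar ≠ M → A ≤ Mstar → Cfsg.sigmaCore M ⊓ Mstar = ⊥) ∧
      ∃ A₁ : Subgroup G, A₁ ≤ A ∧ Nat.card A₁ = p ∧ Cfsg.sigmaCore M ⊓ Subgroup.centralizer (A₁ : Set G) = ⊥ :=
  s1417_core hG hHall h1416 (sec11_glue hG h1409 h1412 hHall hA h117) M hM p hp A hAA

end Cfsg.Agent.Lib.Helper59.BG
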