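-- BG Proposition 12.4 (S1416) from the frozen statements only: helper29's core with BG 11.4
-- (helper25) and BG 11.7 (helper15/helper98/helper57, via `exc_normal_all`) plugged in.
import Mathlib
import Cfsg.Statements.S1416
import Cfsg.Agent.Lib.Helper59.BG.S1417Full
import Cfsg.Agent.Lib.Helper29.BG.S1416C

set_option autoImplicit false

namespace Cfsg.Agent.Lib.Helper59.BG

open Cfsg

/-- **S1416** (B-G Proposition 12.4) from the frozen statements S1350, S1403, S1404, S1405, S1408,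
S1409, S1410, S1412, S1415. -/
theorem s1416_full {G : Type*} [Group G] [Finite G] (hG : Cfsg.IsMinSimpleOddOrder G)
    (h1350 : type_of% (@Cfsg.CfsgFrozen.S1350 G _ _ hG))
    (h1403 : type_of% (@Cfsg.CfsgFrozen.S1403 G _ _ hG))
    (h1404 : type_of% (@Cfsg.CfsgFrozen.S1404 G _ _ hG))
    (h1405 : type_of% (@Cfsg.CfsgFrozen.S1405 G _ _ hG))
    (h1408 : type_of% (@Cfsg.CfsgFrozen.S1408 G _ _ hG))
    (h1409 : type_of% (@Cfsg.CfsgFrozen.S1409 G _ _ hG))
    (h1410 : type_of% (@Cfsg.CfsgFrozen.S1410 G _ _ hG))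
    (h1412 : type_of% (@Cfsg.CfsgFrozen.S1412 G _ _ hG))
    (h1415 : type_of% (@Cfsg.CfsgFrozen.S1415 G _ _ hG)) :
    type_of% (@Cfsg.CfsgFrozen.S1416 G _ _ hG) := by
  intro M hM p _ A hA
  refine Cfsg.Agent.Lib.Helper29.BG.s1416_core hG h1403 h1404 (fun p _ H hH => h1410 p H hH) ?_
    (exc_normal_all hG h1350 h1403 h1404 h1405 h1408 h1409 h1410 h1412 h1415) M hM p A hA
  intro H hH q _ B B₀ hq hBH hBe hB2 hB₀ hB₀c hN
  exact (Cfsg.Agent.Lib.Helper25.BG.exc_sec11 hG h1350 h1404 h1408 h1409 h1410 H hH q hq B hBH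
    hBe hB2 B₀ hB₀ hB₀c hN).2.2.2

end Cfsg.Agent.Lib.Helper59.BG
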